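import Mathlib

/-!
Indices of sublattices of `ℤ^n` cut out by the coordinate-sum map and diagonal matrices.
-/
set_option autoImplicit false

namespace Groth.Agent.CompLatLib

variable {n : ℕ}

/-- the sum of coordinates, as an additive map -/
abbrev sumL (n : ℕ) : (Fin n → ℤ) →ₗ[ℤ] ℤ := ∑ i : Fin n, LinearMap.proj i

/-- a diagonal matrix as a linear map -/
abbrev diagL (δ : Fin n → ℤ) : (Fin n → ℤ) →ₗ[ℤ] (Fin n → ℤ) :=
  Matrix.mulVecLin (Matrix.diagonal δ)

theorem sumL_apply (x : Fin n → ℤ) : sumL n x = ∑ i, x i := by simp [sumL]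

theorem diagL_apply (δ x : Fin n → ℤ) (i : Fin n) : diagL δ x i = δ i * x i :=
  Matrix.mulVec_diagonal δ x i

theorem diagL_injective {δ : Fin n → ℤ} (hδ : ∀ i, δ i ≠ 0) : Function.Injective (diagL δ) := by
  intro x y h
  funext i
  have := congrFun h i
  rw [diagL_apply, diagL_apply] at this
  exact mul_left_cancel₀ (hδ i) this

theorem mem_range_diagL {δ x : Fin n → ℤ} :
    x ∈ LinearMap.range (diagL δ) ↔ ∀ i, δ i ∣ x i := by
  constructor
  · rintro ⟨y, rfl⟩ i
    exact ⟨y i, diagL_apply δ y i⟩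
  · intro h
    choose y hy using h
    exact ⟨y, funext fun i => by rw [diagL_apply, ← hy]⟩

theorem index_range_diagL (δ : Fin n → ℤ) :
    (LinearMap.range (diagL δ)).toAddSubgroup.index = ∏ i, (δ i).natAbs := by
  let q : (Fin n → ℤ) →+ ((i : Fin n) → ZMod (δ i).natAbs) :=
    { toFun := fun x i => (x i : ZMod (δ i).natAbs)
      map_zero' := by funext i; simp
      map_add' := fun x y => by funext i; simp }
  have hk : q.ker = (LinearMap.range (diagL δ)).toAddSubgroup := by
    ext x
    rw [AddMonoidHom.mem_ker, Submodule.mem_toAddSubgroup, mem_range_diagL, funext_iff]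
    refine forall_congr' fun i => ?_
    rw [← Int.natAbs_dvd, ← ZMod.intCast_zmod_eq_zero_iff_dvd]
    rfl
  have hsurj : Function.Surjective q := fun y => by
    choose x hx using fun i => ZMod.intCast_surjective (y i)
    exact ⟨x, funext hx⟩
  rw [← hk, AddSubgroup.index_ker, AddMonoidHom.range_eq_top.2 hsurj, AddSubgroup.card_top,
    Nat.card_pi]
  exact Finset.prod_congr rfl fun i _ => Nat.card_zmod _

theorem sumL_surjective (hn : 0 < n) : Function.Surjective (sumL n) := fun z =>
  ⟨Pi.single ⟨0, hn⟩ z, by rw [sumL_apply, Finset.sum_pi_single']; simp⟩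

theorem index_range_diagL_sup_ker (hn : 0 < n) (δ : Fin n → ℤ) :
    ((LinearMap.range (diagL δ)).toAddSubgroup ⊔ (LinearMap.ker (sumL n)).toAddSubgroup).index =
      (Finset.univ.gcd δ).natAbs := by
  have h := AddSubgroup.index_map (LinearMap.range (diagL δ)).toAddSubgroup (sumL n).toAddMonoidHom
  have hr : (sumL n).toAddMonoidHom.range.index = 1 :=
    AddSubgroup.index_eq_one.2 (AddMonoidHom.range_eq_top.2 (sumL_surjective hn))
  have hm : (LinearMap.range (diagL δ)).toAddSubgroup.map (sumL n).toAddMonoidHom =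
      AddSubgroup.zmultiples (Finset.univ.gcd δ) := by
    ext z
    rw [AddSubgroup.mem_map, Int.mem_zmultiples_iff]
    constructor
    · rintro ⟨x, hx, rfl⟩
      rw [Submodule.mem_toAddSubgroup, mem_range_diagL] at hx
      show Finset.univ.gcd δ ∣ sumL n x
      rw [sumL_apply]
      exact Finset.dvd_sum fun i hi => (Finset.gcd_dvd hi).trans (hx i)
    · rintro ⟨c, rfl⟩
      obtain ⟨g, hg⟩ := Finset.gcd_eq_sum_mul Finset.univ δ
      refine ⟨fun i => δ i * g i * c, ?_, ?_⟩
      · rw [Submodule.mem_toAddSubgroup, mem_range_diagL]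
        exact fun i => Dvd.intro (g i * c) (mul_assoc _ _ _).symm
      · show sumL n _ = _
        rw [sumL_apply, hg, Finset.sum_mul]
  rw [hm, Int.index_zmultiples, hr, mul_one] at h
  exact h.symm

/-- The basic counting identity. -/
theorem relIndex_map_diag_mul (hn : 0 < n) {δ : Fin n → ℤ} (hδ : ∀ i, δ i ≠ 0)
    (N : AddSubgroup (Fin n → ℤ))
    (hN : N ≤ (LinearMap.ker (sumL n ∘ₗ diagL δ)).toAddSubgroup) :
    N.relIndex (LinearMap.ker (sumL n ∘ₗ diagL δ)).toAddSubgroup * ∏ i, (δ i).natAbs =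
      (Finset.univ.gcd δ).natAbs *
        (N.map (diagL δ).toAddMonoidHom).relIndex (LinearMap.ker (sumL n)).toAddSubgroup := by
  set D := (diagL δ).toAddMonoidHom
  set P := (LinearMap.ker (sumL n ∘ₗ diagL δ)).toAddSubgroup
  set K := (LinearMap.ker (sumL n)).toAddSubgroup
  set R := (LinearMap.range (diagL δ)).toAddSubgroup
  have hP : P.map D = R ⊓ K := by
    ext x
    constructor
    · rintro ⟨y, hy, rfl⟩
      exact ⟨⟨y, rfl⟩, hy⟩
    · rintro ⟨⟨y, rfl⟩, hy⟩
      exact ⟨y, hy, rfl⟩
  have h1 : (N.map D).relIndex K = N.relIndex P * R.relIndex K := by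
    rw [← AddSubgroup.relIndex_mul_relIndex (N.map D) (P.map D) K (AddSubgroup.map_mono hN)
        (hP ▸ inf_le_right), AddSubgroup.relIndex_map_map_of_injective N P (diagL_injective hδ),
      hP, AddSubgroup.inf_relIndex_right]
  have h2 : R.relIndex K * (Finset.univ.gcd δ).natAbs = ∏ i, (δ i).natAbs := by
    rw [← index_range_diagL_sup_ker hn δ, ← index_range_diagL δ,
      ← AddSubgroup.relIndex_sup_left K R]
    exact AddSubgroup.relIndex_mul_index le_sup_left
  rw [h1, ← h2]
  ring

/-- If a rank one kernel contains `δ'`, the twisted counting identity. -/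
theorem relIndex_map_comp_diag_mul (hn : 0 < n) {δ' : Fin n → ℤ} (hδ' : ∀ i, δ' i ≠ 0)
    (A : (Fin n → ℤ) →ₗ[ℤ] (Fin n → ℤ)) (hrk : Module.finrank ℤ (LinearMap.range A) = n - 1)
    (hA : A δ' = 0) (K : AddSubgroup (Fin n → ℤ)) (hK : (LinearMap.range A).toAddSubgroup ≤ K) :
    (LinearMap.range (A ∘ₗ diagL δ')).toAddSubgroup.relIndex K * (Finset.univ.gcd δ').natAbs =
      (LinearMap.range A).toAddSubgroup.relIndex K * ∏ i, (δ' i).natAbs := by
  set d := Finset.univ.gcd δ'
  set M' := (LinearMap.range (A ∘ₗ diagL δ')).toAddSubgroup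
  set M := (LinearMap.range A).toAddSubgroup
  set R := (LinearMap.range (diagL δ')).toAddSubgroup
  set Z := A.toAddMonoidHom.ker
  have hne : (Finset.univ : Finset (Fin n)).Nonempty := ⟨⟨0, hn⟩, Finset.mem_univ _⟩
  obtain ⟨w, hw, hw1⟩ := Finset.extract_gcd δ' hne
  have hδw : δ' = d • w := funext fun i => hw i (Finset.mem_univ i)
  have hd : d ≠ 0 := fun h => hδ' ⟨0, hn⟩ (by rw [hδw, h, zero_smul]; rfl)
  have hwi : ∀ i, w i ≠ 0 := fun i h => hδ' i (by rw [hδw, Pi.smul_apply, h, smul_zero])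
  have hAw : A w = 0 := by
    have : d • A w = 0 := by rw [← map_smul, ← hδw, hA]
    exact (smul_eq_zero.1 this).resolve_left hd
  -- the kernel of `A` is `ℤ w`
  have hker : Module.finrank ℤ (LinearMap.ker A) = 1 := by
    have h := Submodule.finrank_quotient_add_finrank (LinearMap.ker A)
    rw [A.quotKerEquivRange.finrank_eq, hrk, Module.finrank_fintype_fun_eq_card,
      Fintype.card_fin] at h
    omega
  let g : ℤ →+ (Fin n → ℤ) := (LinearMap.toSpanSingleton ℤ _ w).toAddMonoidHom
  have hg : ∀ m, g m = m • w := fun m => rfl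
  have hZ : (⊤ : AddSubgroup ℤ).map g = Z := by
    ext x
    constructor
    · rintro ⟨m, -, rfl⟩
      show A (g m) = 0
      rw [hg, map_smul, hAw, smul_zero]
    · intro hx
      have hdep : ¬ LinearIndependent ℤ ![(⟨w, hAw⟩ : LinearMap.ker A), ⟨x, hx⟩] := fun hli => by
        have := hli.fintype_card_le_finrank
        rw [hker, Fintype.card_fin] at this
        omega
      rw [LinearIndependent.pair_iff] at hdep
      push Not at hdep
      obtain ⟨s, t, hst, hne'⟩ := hdep
      replace hst : s • w + t • x = 0 := congrArg Subtype.val hst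
      have hsti : ∀ i, t * x i = (-s) * w i := fun i => by
        have := congrFun hst i
        simp only [Pi.add_apply, Pi.smul_apply, smul_eq_mul, Pi.zero_apply] at this
        linarith
      have ht : t ≠ 0 := fun h => by
        have hs : s ≠ 0 := fun hs => hne' hs h
        have := hsti ⟨0, hn⟩
        rw [h, zero_mul] at this
        exact mul_ne_zero (neg_ne_zero.2 hs) (hwi _) this.symm
      obtain ⟨c, hc⟩ := Finset.gcd_eq_sum_mul Finset.univ w
      rw [hw1] at hc
      refine ⟨∑ i, x i * c i, trivial, funext fun j => mul_left_cancel₀ ht ?_⟩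
      rw [hg, Pi.smul_apply, smul_eq_mul, hsti j, ← mul_assoc, Finset.mul_sum]
      congr 1
      calc (∑ i, t * (x i * c i)) = ∑ i, (-s) * (w i * c i) :=
            Finset.sum_congr rfl fun i _ => by rw [← mul_assoc, hsti i, mul_assoc]
        _ = -s := by rw [← Finset.mul_sum, ← hc, mul_one]
  have hRZ : R.relIndex Z = d.natAbs := by
    rw [← hZ, ← AddSubgroup.relIndex_comap, AddSubgroup.relIndex_top_right,
      ← Int.index_zmultiples d]
    congr 1
    ext m
    rw [AddSubgroup.mem_comap, Submodule.mem_toAddSubgroup, mem_range_diagL, Int.mem_zmultiples_iff]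
    simp only [hg, hδw, Pi.smul_apply, smul_eq_mul]
    exact ⟨fun h => (mul_dvd_mul_iff_right (hwi ⟨0, hn⟩)).1 (h _),
      fun h i => mul_dvd_mul_right h _⟩
  have hM' : M' = R.map A.toAddMonoidHom := by
    ext x
    constructor
    · rintro ⟨y, rfl⟩; exact ⟨_, ⟨y, rfl⟩, rfl⟩
    · rintro ⟨_, ⟨y, rfl⟩, rfl⟩; exact ⟨y, rfl⟩
  have hM : M = (⊤ : AddSubgroup (Fin n → ℤ)).map A.toAddMonoidHom := by
    ext x
    exact ⟨fun ⟨y, hy⟩ => ⟨y, trivial, hy⟩, fun ⟨y, _, hy⟩ => ⟨y, hy⟩⟩
  have hle : M' ≤ M := by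
    rw [hM', hM]; exact AddSubgroup.map_mono le_top
  have h1 : M'.relIndex M = (R ⊔ Z).index := by
    rw [hM', hM, AddSubgroup.relIndex_map_map, top_sup_eq, AddSubgroup.relIndex_top_right]
  have h2 : d.natAbs * (R ⊔ Z).index = ∏ i, (δ' i).natAbs := by
    rw [← hRZ, ← index_range_diagL δ', ← AddSubgroup.relIndex_sup_left Z R]
    exact AddSubgroup.relIndex_mul_index le_sup_left
  rw [← AddSubgroup.relIndex_mul_relIndex M' M K hle hK, h1, ← h2]
  ring

end Groth.Agent.CompLatLib
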